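import Cfsg.Agent.Helper28.U62A.Data
set_option autoImplicit false
set_option maxRecDepth 1000000
namespace Cfsg.Agent.Helper28.U62A
open Cfsg.Agent.Helper28
theorem fin_piece8 : allLtFrom (finRow tabs ptabs 97613) 5000 625 = true := by decide +kernel
theorem fin_piece9 : allLtFrom (finRow tabs ptabs 97613) 5625 625 = true := by decide +kernel
theorem fin_piece10 : allLtFrom (finRow tabs ptabs 97613) 6250 86 = true := by decide +kernel
end Cfsg.Agent.Helper28.U62A
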