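import Cfsg.Agent.Helper28.U62A.Data
set_option autoImplicit false
set_option maxRecDepth 1000000
namespace Cfsg.Agent.Helper28.U62A
open Cfsg.Agent.Helper28
theorem perm_piece_0_0 : permPieceF tabs.word letSel 7 3 0 6336 = true := by decide +kernel
theorem perm_piece_1_0 : permPieceF tabs.word letSel 10 3 0 6336 = true := by decide +kernel
theorem perm_piece_2_0 : permPieceF tabs.word letSel 13 3 0 6336 = true := by decide +kernel
theorem perm_piece_3_0 : permPieceF tabs.word letSel 16 3 0 6336 = true := by decide +kernel
theorem perm_piece_4_0 : permPieceF tabs.word letSel 19 3 0 6336 = true := by decide +kernel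
theorem perm_piece_5_0 : permPieceF tabs.word letSel 22 3 0 6336 = true := by decide +kernel
theorem perm_piece_6_0 : permPieceF tabs.word letSel 25 3 0 6336 = true := by decide +kernel
theorem perm_piece_7_0 : permPieceF tabs.word letSel 28 3 0 6336 = true := by decide +kernel
theorem perm_piece_8_0 : permPieceF tabs.word letSel 31 3 0 6336 = true := by decide +kernel
end Cfsg.Agent.Helper28.U62A
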