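import Cfsg.Agent.Helper28.U62A.Data
set_option autoImplicit false
set_option maxRecDepth 1000000
namespace Cfsg.Agent.Helper28.U62A
open Cfsg.Agent.Helper28
theorem perm_piece_9_0 : permPieceF tabs.word letSel 34 3 0 6336 = true := by decide +kernel
theorem perm_piece_10_0 : permPieceF tabs.word letSel 37 3 0 6336 = true := by decide +kernel
theorem perm_piece_11_0 : permPieceF tabs.word letSel 40 3 0 6336 = true := by decide +kernel
theorem perm_piece_12_0 : permPieceF tabs.word letSel 43 4 0 6336 = true := by decide +kernel
theorem perm_piece_13_0 : permPieceF tabs.word letSel 47 3 0 6336 = true := by decide +kernel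
theorem perm_piece_14_0 : permPieceF tabs.word letSel 50 3 0 6336 = true := by decide +kernel
theorem perm_piece_15_0 : permPieceF tabs.word letSel 53 3 0 6336 = true := by decide +kernel
theorem perm_piece_16_0 : permPieceF tabs.word letSel 56 3 0 6336 = true := by decide +kernel
theorem perm_piece_17_0 : permPieceF tabs.word letSel 59 3 0 6336 = true := by decide +kernel
end Cfsg.Agent.Helper28.U62A
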