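import Cfsg.Agent.Helper28.U62A.Data
set_option autoImplicit false
set_option maxRecDepth 1000000
namespace Cfsg.Agent.Helper28.U62A
open Cfsg.Agent.Helper28
theorem perm_piece_18_0 : permPieceF tabs.word letSel 62 3 0 6336 = true := by decide +kernel
theorem perm_piece_19_0 : permPieceF tabs.word letSel 65 3 0 6336 = true := by decide +kernel
theorem perm_piece_20_0 : permPieceF tabs.word letSel 68 3 0 6336 = true := by decide +kernel
theorem perm_piece_21_0 : permPieceF tabs.word letSel 71 1 0 1410 = true := by decide +kernel
theorem perm_piece_21_1 : permPieceF tabs.word letSel 71 1 1410 1410 = true := by decide +kernel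
theorem perm_piece_21_2 : permPieceF tabs.word letSel 71 1 2820 1410 = true := by decide +kernel
theorem perm_piece_21_3 : permPieceF tabs.word letSel 71 1 4230 1410 = true := by decide +kernel
theorem perm_piece_21_4 : permPieceF tabs.word letSel 71 1 5640 696 = true := by decide +kernel
theorem perm_piece_22_0 : permPieceF tabs.word letSel 72 1 0 2962 = true := by decide +kernel
end Cfsg.Agent.Helper28.U62A
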