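import Cfsg.Agent.Helper28.U62A.Data
set_option autoImplicit false
set_option maxRecDepth 1000000
namespace Cfsg.Agent.Helper28.U62A
open Cfsg.Agent.Helper28
theorem perm_piece_22_1 : permPieceF tabs.word letSel 72 1 2962 2962 = true := by decide +kernel
theorem perm_piece_22_2 : permPieceF tabs.word letSel 72 1 5924 412 = true := by decide +kernel
theorem perm_piece_23_0 : permPieceF tabs.word letSel 73 1 0 2962 = true := by decide +kernel
theorem perm_piece_23_1 : permPieceF tabs.word letSel 73 1 2962 2962 = true := by decide +kernel
theorem perm_piece_23_2 : permPieceF tabs.word letSel 73 1 5924 412 = true := by decide +kernel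
theorem perm_piece_24_0 : permPieceF tabs.word letSel 74 1 0 1410 = true := by decide +kernel
theorem perm_piece_24_1 : permPieceF tabs.word letSel 74 1 1410 1410 = true := by decide +kernel
theorem perm_piece_24_2 : permPieceF tabs.word letSel 74 1 2820 1410 = true := by decide +kernel
theorem perm_piece_24_3 : permPieceF tabs.word letSel 74 1 4230 1410 = true := by decide +kernel
theorem perm_piece_24_4 : permPieceF tabs.word letSel 74 1 5640 696 = true := by decide +kernel
end Cfsg.Agent.Helper28.U62A
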