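import Cfsg.Agent.Helper28.U62A.F0
import Cfsg.Agent.Helper28.U62A.F1
import Cfsg.Agent.Helper28.U62A.F2
import Cfsg.Agent.Helper28.U62A.Fin0
import Cfsg.Agent.Helper28.U62A.Fin1
import Cfsg.Agent.Helper28.U62A.Inv0
import Cfsg.Agent.Helper28.U62A.Misc0
import Cfsg.Agent.Helper28.U62A.P0
import Cfsg.Agent.Helper28.U62A.P1
import Cfsg.Agent.Helper28.U62A.P2
import Cfsg.Agent.Helper28.U62A.P3
set_option autoImplicit false
namespace Cfsg.Agent.Helper28.U62A
open Cfsg.Agent.Helper28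
theorem fin_upto0 : allLt (finRow tabs ptabs 97613) 625 = true :=
  allLt_extend _ 0 625 625 rfl (allLt_zero _) fin_piece0
theorem fin_upto1 : allLt (finRow tabs ptabs 97613) 1250 = true :=
  allLt_extend _ 625 625 1250 rfl fin_upto0 fin_piece1
theorem fin_upto2 : allLt (finRow tabs ptabs 97613) 1875 = true :=
  allLt_extend _ 1250 625 1875 rfl fin_upto1 fin_piece2
theorem fin_upto3 : allLt (finRow tabs ptabs 97613) 2500 = true :=
  allLt_extend _ 1875 625 2500 rfl fin_upto2 fin_piece3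
theorem fin_upto4 : allLt (finRow tabs ptabs 97613) 3125 = true :=
  allLt_extend _ 2500 625 3125 rfl fin_upto3 fin_piece4
theorem fin_upto5 : allLt (finRow tabs ptabs 97613) 3750 = true :=
  allLt_extend _ 3125 625 3750 rfl fin_upto4 fin_piece5
theorem fin_upto6 : allLt (finRow tabs ptabs 97613) 4375 = true :=
  allLt_extend _ 3750 625 4375 rfl fin_upto5 fin_piece6
theorem fin_upto7 : allLt (finRow tabs ptabs 97613) 5000 = true :=
  allLt_extend _ 4375 625 5000 rfl fin_upto6 fin_piece7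
theorem fin_upto8 : allLt (finRow tabs ptabs 97613) 5625 = true :=
  allLt_extend _ 5000 625 5625 rfl fin_upto7 fin_piece8
theorem fin_upto9 : allLt (finRow tabs ptabs 97613) 6250 = true :=
  allLt_extend _ 5625 625 6250 rfl fin_upto8 fin_piece9
theorem fin_upto10 : allLt (finRow tabs ptabs 97613) 6336 = true :=
  allLt_extend _ 6250 86 6336 rfl fin_upto9 fin_piece10
theorem fin_ok : checkFin tabs ptabs 97613 = true := (checkFin_eq tabs ptabs 97613).trans fin_upto10
theorem inv_upto0 : allLt (invRow ptabs) 2500 = true :=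
  allLt_extend _ 0 2500 2500 rfl (allLt_zero _) inv_piece0
theorem inv_upto1 : allLt (invRow ptabs) 5000 = true :=
  allLt_extend _ 2500 2500 5000 rfl inv_upto0 inv_piece1
theorem inv_upto2 : allLt (invRow ptabs) 6336 = true :=
  allLt_extend _ 5000 1336 6336 rfl inv_upto1 inv_piece2
theorem inv_ok : invOk ptabs = true := (invOk_eq ptabs).trans inv_upto2
theorem defs_upto0 : allLt (defOk tabs) 18715 = true :=
  allLt_extend _ 0 18715 18715 rfl (allLt_zero _) defs_piece0
theorem defs_ok : checkDefs tabs = true := (checkDefs_eq tabs).trans defs_upto0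
theorem par_upto0 : allLt (parRow ptabs) 6336 = true :=
  allLt_extend _ 0 6336 6336 rfl (allLt_zero _) par_piece0
theorem par_ok : parOk ptabs = true := (parOk_eq ptabs).trans par_upto0
theorem perm_g0_upto0 : TraceFix ptabs.perm tabs.word 7 3 6336 :=
  traceFix_extendF _ _ letSel perm_eq 7 3 0 6336 6336 rfl (traceFix_zero _ _ 7 3) perm_piece_0_0
theorem perm_g0 : ∀ r, 7 ≤ r → r < 7 + 3 → relOk ptabs (tabs.word r) 0 ptabs.n = true :=
  relOk_of_traceFix ptabs tabs.word 7 3 perm_g0_upto0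
theorem perm_g1_upto0 : TraceFix ptabs.perm tabs.word 10 3 6336 :=
  traceFix_extendF _ _ letSel perm_eq 10 3 0 6336 6336 rfl (traceFix_zero _ _ 10 3) perm_piece_1_0
theorem perm_g1 : ∀ r, 10 ≤ r → r < 10 + 3 → relOk ptabs (tabs.word r) 0 ptabs.n = true :=
  relOk_of_traceFix ptabs tabs.word 10 3 perm_g1_upto0
theorem perm_g2_upto0 : TraceFix ptabs.perm tabs.word 13 3 6336 :=
  traceFix_extendF _ _ letSel perm_eq 13 3 0 6336 6336 rfl (traceFix_zero _ _ 13 3) perm_piece_2_0
theorem perm_g2 : ∀ r, 13 ≤ r → r < 13 + 3 → relOk ptabs (tabs.word r) 0 ptabs.n = true :=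
  relOk_of_traceFix ptabs tabs.word 13 3 perm_g2_upto0
theorem perm_g3_upto0 : TraceFix ptabs.perm tabs.word 16 3 6336 :=
  traceFix_extendF _ _ letSel perm_eq 16 3 0 6336 6336 rfl (traceFix_zero _ _ 16 3) perm_piece_3_0
theorem perm_g3 : ∀ r, 16 ≤ r → r < 16 + 3 → relOk ptabs (tabs.word r) 0 ptabs.n = true :=
  relOk_of_traceFix ptabs tabs.word 16 3 perm_g3_upto0
theorem perm_g4_upto0 : TraceFix ptabs.perm tabs.word 19 3 6336 :=
  traceFix_extendF _ _ letSel perm_eq 19 3 0 6336 6336 rfl (traceFix_zero _ _ 19 3) perm_piece_4_0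
theorem perm_g4 : ∀ r, 19 ≤ r → r < 19 + 3 → relOk ptabs (tabs.word r) 0 ptabs.n = true :=
  relOk_of_traceFix ptabs tabs.word 19 3 perm_g4_upto0
theorem perm_g5_upto0 : TraceFix ptabs.perm tabs.word 22 3 6336 :=
  traceFix_extendF _ _ letSel perm_eq 22 3 0 6336 6336 rfl (traceFix_zero _ _ 22 3) perm_piece_5_0
theorem perm_g5 : ∀ r, 22 ≤ r → r < 22 + 3 → relOk ptabs (tabs.word r) 0 ptabs.n = true :=
  relOk_of_traceFix ptabs tabs.word 22 3 perm_g5_upto0
theorem perm_g6_upto0 : TraceFix ptabs.perm tabs.word 25 3 6336 :=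
  traceFix_extendF _ _ letSel perm_eq 25 3 0 6336 6336 rfl (traceFix_zero _ _ 25 3) perm_piece_6_0
theorem perm_g6 : ∀ r, 25 ≤ r → r < 25 + 3 → relOk ptabs (tabs.word r) 0 ptabs.n = true :=
  relOk_of_traceFix ptabs tabs.word 25 3 perm_g6_upto0
theorem perm_g7_upto0 : TraceFix ptabs.perm tabs.word 28 3 6336 :=
  traceFix_extendF _ _ letSel perm_eq 28 3 0 6336 6336 rfl (traceFix_zero _ _ 28 3) perm_piece_7_0
theorem perm_g7 : ∀ r, 28 ≤ r → r < 28 + 3 → relOk ptabs (tabs.word r) 0 ptabs.n = true :=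
  relOk_of_traceFix ptabs tabs.word 28 3 perm_g7_upto0
theorem perm_g8_upto0 : TraceFix ptabs.perm tabs.word 31 3 6336 :=
  traceFix_extendF _ _ letSel perm_eq 31 3 0 6336 6336 rfl (traceFix_zero _ _ 31 3) perm_piece_8_0
theorem perm_g8 : ∀ r, 31 ≤ r → r < 31 + 3 → relOk ptabs (tabs.word r) 0 ptabs.n = true :=
  relOk_of_traceFix ptabs tabs.word 31 3 perm_g8_upto0
theorem perm_g9_upto0 : TraceFix ptabs.perm tabs.word 34 3 6336 :=
  traceFix_extendF _ _ letSel perm_eq 34 3 0 6336 6336 rfl (traceFix_zero _ _ 34 3) perm_piece_9_0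
theorem perm_g9 : ∀ r, 34 ≤ r → r < 34 + 3 → relOk ptabs (tabs.word r) 0 ptabs.n = true :=
  relOk_of_traceFix ptabs tabs.word 34 3 perm_g9_upto0
theorem perm_g10_upto0 : TraceFix ptabs.perm tabs.word 37 3 6336 :=
  traceFix_extendF _ _ letSel perm_eq 37 3 0 6336 6336 rfl (traceFix_zero _ _ 37 3) perm_piece_10_0
theorem perm_g10 : ∀ r, 37 ≤ r → r < 37 + 3 → relOk ptabs (tabs.word r) 0 ptabs.n = true :=
  relOk_of_traceFix ptabs tabs.word 37 3 perm_g10_upto0
theorem perm_g11_upto0 : TraceFix ptabs.perm tabs.word 40 3 6336 :=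
  traceFix_extendF _ _ letSel perm_eq 40 3 0 6336 6336 rfl (traceFix_zero _ _ 40 3) perm_piece_11_0
theorem perm_g11 : ∀ r, 40 ≤ r → r < 40 + 3 → relOk ptabs (tabs.word r) 0 ptabs.n = true :=
  relOk_of_traceFix ptabs tabs.word 40 3 perm_g11_upto0
theorem perm_g12_upto0 : TraceFix ptabs.perm tabs.word 43 4 6336 :=
  traceFix_extendF _ _ letSel perm_eq 43 4 0 6336 6336 rfl (traceFix_zero _ _ 43 4) perm_piece_12_0
theorem perm_g12 : ∀ r, 43 ≤ r → r < 43 + 4 → relOk ptabs (tabs.word r) 0 ptabs.n = true :=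
  relOk_of_traceFix ptabs tabs.word 43 4 perm_g12_upto0
theorem perm_g13_upto0 : TraceFix ptabs.perm tabs.word 47 3 6336 :=
  traceFix_extendF _ _ letSel perm_eq 47 3 0 6336 6336 rfl (traceFix_zero _ _ 47 3) perm_piece_13_0
theorem perm_g13 : ∀ r, 47 ≤ r → r < 47 + 3 → relOk ptabs (tabs.word r) 0 ptabs.n = true :=
  relOk_of_traceFix ptabs tabs.word 47 3 perm_g13_upto0
theorem perm_g14_upto0 : TraceFix ptabs.perm tabs.word 50 3 6336 :=
  traceFix_extendF _ _ letSel perm_eq 50 3 0 6336 6336 rfl (traceFix_zero _ _ 50 3) perm_piece_14_0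
theorem perm_g14 : ∀ r, 50 ≤ r → r < 50 + 3 → relOk ptabs (tabs.word r) 0 ptabs.n = true :=
  relOk_of_traceFix ptabs tabs.word 50 3 perm_g14_upto0
theorem perm_g15_upto0 : TraceFix ptabs.perm tabs.word 53 3 6336 :=
  traceFix_extendF _ _ letSel perm_eq 53 3 0 6336 6336 rfl (traceFix_zero _ _ 53 3) perm_piece_15_0
theorem perm_g15 : ∀ r, 53 ≤ r → r < 53 + 3 → relOk ptabs (tabs.word r) 0 ptabs.n = true :=
  relOk_of_traceFix ptabs tabs.word 53 3 perm_g15_upto0
theorem perm_g16_upto0 : TraceFix ptabs.perm tabs.word 56 3 6336 :=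
  traceFix_extendF _ _ letSel perm_eq 56 3 0 6336 6336 rfl (traceFix_zero _ _ 56 3) perm_piece_16_0
theorem perm_g16 : ∀ r, 56 ≤ r → r < 56 + 3 → relOk ptabs (tabs.word r) 0 ptabs.n = true :=
  relOk_of_traceFix ptabs tabs.word 56 3 perm_g16_upto0
theorem perm_g17_upto0 : TraceFix ptabs.perm tabs.word 59 3 6336 :=
  traceFix_extendF _ _ letSel perm_eq 59 3 0 6336 6336 rfl (traceFix_zero _ _ 59 3) perm_piece_17_0
theorem perm_g17 : ∀ r, 59 ≤ r → r < 59 + 3 → relOk ptabs (tabs.word r) 0 ptabs.n = true :=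
  relOk_of_traceFix ptabs tabs.word 59 3 perm_g17_upto0
theorem perm_g18_upto0 : TraceFix ptabs.perm tabs.word 62 3 6336 :=
  traceFix_extendF _ _ letSel perm_eq 62 3 0 6336 6336 rfl (traceFix_zero _ _ 62 3) perm_piece_18_0
theorem perm_g18 : ∀ r, 62 ≤ r → r < 62 + 3 → relOk ptabs (tabs.word r) 0 ptabs.n = true :=
  relOk_of_traceFix ptabs tabs.word 62 3 perm_g18_upto0
theorem perm_g19_upto0 : TraceFix ptabs.perm tabs.word 65 3 6336 :=
  traceFix_extendF _ _ letSel perm_eq 65 3 0 6336 6336 rfl (traceFix_zero _ _ 65 3) perm_piece_19_0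
theorem perm_g19 : ∀ r, 65 ≤ r → r < 65 + 3 → relOk ptabs (tabs.word r) 0 ptabs.n = true :=
  relOk_of_traceFix ptabs tabs.word 65 3 perm_g19_upto0
theorem perm_g20_upto0 : TraceFix ptabs.perm tabs.word 68 3 6336 :=
  traceFix_extendF _ _ letSel perm_eq 68 3 0 6336 6336 rfl (traceFix_zero _ _ 68 3) perm_piece_20_0
theorem perm_g20 : ∀ r, 68 ≤ r → r < 68 + 3 → relOk ptabs (tabs.word r) 0 ptabs.n = true :=
  relOk_of_traceFix ptabs tabs.word 68 3 perm_g20_upto0
theorem perm_g21_upto0 : TraceFix ptabs.perm tabs.word 71 1 1410 :=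
  traceFix_extendF _ _ letSel perm_eq 71 1 0 1410 1410 rfl (traceFix_zero _ _ 71 1) perm_piece_21_0
theorem perm_g21_upto1 : TraceFix ptabs.perm tabs.word 71 1 2820 :=
  traceFix_extendF _ _ letSel perm_eq 71 1 1410 1410 2820 rfl perm_g21_upto0 perm_piece_21_1
theorem perm_g21_upto2 : TraceFix ptabs.perm tabs.word 71 1 4230 :=
  traceFix_extendF _ _ letSel perm_eq 71 1 2820 1410 4230 rfl perm_g21_upto1 perm_piece_21_2
theorem perm_g21_upto3 : TraceFix ptabs.perm tabs.word 71 1 5640 :=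
  traceFix_extendF _ _ letSel perm_eq 71 1 4230 1410 5640 rfl perm_g21_upto2 perm_piece_21_3
theorem perm_g21_upto4 : TraceFix ptabs.perm tabs.word 71 1 6336 :=
  traceFix_extendF _ _ letSel perm_eq 71 1 5640 696 6336 rfl perm_g21_upto3 perm_piece_21_4
theorem perm_g21 : ∀ r, 71 ≤ r → r < 71 + 1 → relOk ptabs (tabs.word r) 0 ptabs.n = true :=
  relOk_of_traceFix ptabs tabs.word 71 1 perm_g21_upto4
theorem perm_g22_upto0 : TraceFix ptabs.perm tabs.word 72 1 2962 :=
  traceFix_extendF _ _ letSel perm_eq 72 1 0 2962 2962 rfl (traceFix_zero _ _ 72 1) perm_piece_22_0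
theorem perm_g22_upto1 : TraceFix ptabs.perm tabs.word 72 1 5924 :=
  traceFix_extendF _ _ letSel perm_eq 72 1 2962 2962 5924 rfl perm_g22_upto0 perm_piece_22_1
theorem perm_g22_upto2 : TraceFix ptabs.perm tabs.word 72 1 6336 :=
  traceFix_extendF _ _ letSel perm_eq 72 1 5924 412 6336 rfl perm_g22_upto1 perm_piece_22_2
theorem perm_g22 : ∀ r, 72 ≤ r → r < 72 + 1 → relOk ptabs (tabs.word r) 0 ptabs.n = true :=
  relOk_of_traceFix ptabs tabs.word 72 1 perm_g22_upto2
theorem perm_g23_upto0 : TraceFix ptabs.perm tabs.word 73 1 2962 :=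
  traceFix_extendF _ _ letSel perm_eq 73 1 0 2962 2962 rfl (traceFix_zero _ _ 73 1) perm_piece_23_0
theorem perm_g23_upto1 : TraceFix ptabs.perm tabs.word 73 1 5924 :=
  traceFix_extendF _ _ letSel perm_eq 73 1 2962 2962 5924 rfl perm_g23_upto0 perm_piece_23_1
theorem perm_g23_upto2 : TraceFix ptabs.perm tabs.word 73 1 6336 :=
  traceFix_extendF _ _ letSel perm_eq 73 1 5924 412 6336 rfl perm_g23_upto1 perm_piece_23_2
theorem perm_g23 : ∀ r, 73 ≤ r → r < 73 + 1 → relOk ptabs (tabs.word r) 0 ptabs.n = true :=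
  relOk_of_traceFix ptabs tabs.word 73 1 perm_g23_upto2
theorem perm_g24_upto0 : TraceFix ptabs.perm tabs.word 74 1 1410 :=
  traceFix_extendF _ _ letSel perm_eq 74 1 0 1410 1410 rfl (traceFix_zero _ _ 74 1) perm_piece_24_0
theorem perm_g24_upto1 : TraceFix ptabs.perm tabs.word 74 1 2820 :=
  traceFix_extendF _ _ letSel perm_eq 74 1 1410 1410 2820 rfl perm_g24_upto0 perm_piece_24_1
theorem perm_g24_upto2 : TraceFix ptabs.perm tabs.word 74 1 4230 :=
  traceFix_extendF _ _ letSel perm_eq 74 1 2820 1410 4230 rfl perm_g24_upto1 perm_piece_24_2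
theorem perm_g24_upto3 : TraceFix ptabs.perm tabs.word 74 1 5640 :=
  traceFix_extendF _ _ letSel perm_eq 74 1 4230 1410 5640 rfl perm_g24_upto2 perm_piece_24_3
theorem perm_g24_upto4 : TraceFix ptabs.perm tabs.word 74 1 6336 :=
  traceFix_extendF _ _ letSel perm_eq 74 1 5640 696 6336 rfl perm_g24_upto3 perm_piece_24_4
theorem perm_g24 : ∀ r, 74 ≤ r → r < 74 + 1 → relOk ptabs (tabs.word r) 0 ptabs.n = true :=
  relOk_of_traceFix ptabs tabs.word 74 1 perm_g24_upto4
theorem perm_all : ∀ r, 7 ≤ r → r < 75 → relOk ptabs (tabs.word r) 0 ptabs.n = true := by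
  intro r h1 h2
  by_cases c0 : r < 10
  · exact perm_g0 r (by omega) (by omega)
  by_cases c1 : r < 13
  · exact perm_g1 r (by omega) (by omega)
  by_cases c2 : r < 16
  · exact perm_g2 r (by omega) (by omega)
  by_cases c3 : r < 19
  · exact perm_g3 r (by omega) (by omega)
  by_cases c4 : r < 22
  · exact perm_g4 r (by omega) (by omega)
  by_cases c5 : r < 25
  · exact perm_g5 r (by omega) (by omega)
  by_cases c6 : r < 28
  · exact perm_g6 r (by omega) (by omega)
  by_cases c7 : r < 31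
  · exact perm_g7 r (by omega) (by omega)
  by_cases c8 : r < 34
  · exact perm_g8 r (by omega) (by omega)
  by_cases c9 : r < 37
  · exact perm_g9 r (by omega) (by omega)
  by_cases c10 : r < 40
  · exact perm_g10 r (by omega) (by omega)
  by_cases c11 : r < 43
  · exact perm_g11 r (by omega) (by omega)
  by_cases c12 : r < 47
  · exact perm_g12 r (by omega) (by omega)
  by_cases c13 : r < 50
  · exact perm_g13 r (by omega) (by omega)
  by_cases c14 : r < 53
  · exact perm_g14 r (by omega) (by omega)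
  by_cases c15 : r < 56
  · exact perm_g15 r (by omega) (by omega)
  by_cases c16 : r < 59
  · exact perm_g16 r (by omega) (by omega)
  by_cases c17 : r < 62
  · exact perm_g17 r (by omega) (by omega)
  by_cases c18 : r < 65
  · exact perm_g18 r (by omega) (by omega)
  by_cases c19 : r < 68
  · exact perm_g19 r (by omega) (by omega)
  by_cases c20 : r < 71
  · exact perm_g20 r (by omega) (by omega)
  by_cases c21 : r < 72
  · exact perm_g21 r (by omega) (by omega)
  by_cases c22 : r < 73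
  · exact perm_g22 r (by omega) (by omega)
  by_cases c23 : r < 74
  · exact perm_g23 r (by omega) (by omega)
  by_cases c24 : r < 75
  · exact perm_g24 r (by omega) (by omega)
  omega
theorem subfix_all : ∀ r, r < 7 → relOk ptabs (tabs.word r) 0 1 = true := allLt_sound _ _ subfix_ok
end Cfsg.Agent.Helper28.U62A
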