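import Cfsg.Agent.Helper28.U62A.All
import Cfsg.Agent.Helper28.U62Pres
set_option autoImplicit false
set_option maxRecDepth 1000000
namespace Cfsg.Agent.Helper28.U62A
open Cfsg.Agent.Helper28 Cfsg.Spor

/-- generator with a given index -/
def gen : Nat → U62P.Gen
  | 0 => .c | 1 => .d | 2 => .e | 3 => .f | 4 => .g | 5 => .h | 6 => .i | _ => .t

/-- index of a generator -/
def idx : U62P.Gen → Nat
  | .c => 0 | .d => 1 | .e => 2 | .f => 3 | .g => 4 | .h => 5 | .i => 6 | .t => 7

/-- the subgroup generators -/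
def Ylist : List (FreeGroup U62P.Gen) := [U62P.c, U62P.d, U62P.e, U62P.f, U62P.g, U62P.h, U62P.i]

theorem hY_ok : ∀ s, s < tabs.nsub → ev gen 8 (tabs.word s) = Ylist.getD s 1 := by
  decide +kernel

theorem hcoxw_ok : ∀ ix, ix < 8 → ∀ iy, iy < 8 →
    tabs.word (tabs.nsub + ix * 8 + iy) = coxW ix iy (lab U62P.edges gen ix iy) := by
  decide +kernel

theorem hextra_ok : ∀ j, j < U62P.extra.length →
    ev gen 8 (tabs.word (tabs.nsub + 8 * 8 + j)) = U62P.extra.getD j 1 := by
  decide +kernel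

theorem htriv_ok : ∀ l, l < 2 * 8 →
    tabs.word (tabs.nsub + 8 * 8 + U62P.extra.length + l) = [l, flipL l] := by
  decide +kernel

theorem hletters_ok : ∀ r, r < tabs.nwords → ∀ l ∈ tabs.word r, l < ptabs.L := by
  decide +kernel

theorem layout : Layout U62P.edges U62P.extra Ylist gen idx 8 tabs ptabs where
  hngen := by decide
  hgi := by intro a; cases a <;> exact ⟨by decide, rfl⟩
  hig := by decide
  hnsub := by decide +kernel
  hY := hY_ok
  hcoxw := hcoxw_ok
  hextra := hextra_ok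
  htriv := htriv_ok
  hempty := by decide +kernel
  hnwords := by decide +kernel
  hL := by decide +kernel
  hletters := hletters_ok

/-- the relators -/
abbrev R : Set (FreeGroup U62P.Gen) := coxRels U62P.edges U62P.extra
/-- the subgroup generators as a set -/
abbrev Y : Set (FreeGroup U62P.Gen) := {y | y ∈ Ylist}

theorem facts_to (k kend : Nat) (vs : List Nat) (hc : checkChunks tabs vs k kend = true)
    (hk : ∀ f, f < k → VF (HH R Y) (gG R gen 8) tabs f) :
    ∀ f, f < kend → VF (HH R Y) (gG R gen 8) tabs f :=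
  facts_part R Y gen 8 tabs layout.hngen defs_ok layout.hYw layout.hrelw vs k kend hc hk

theorem facts_0 : ∀ f, f < 0 → VF (HH R Y) (gG R gen 8) tabs f :=
  fun f hf => absurd hf (Nat.not_lt_zero f)
theorem facts_upto0 : ∀ f, f < 4992 → VF (HH R Y) (gG R gen 8) tabs f :=
  facts_to _ _ _ facts_ok0 facts_0
theorem facts_upto1 : ∀ f, f < 9984 → VF (HH R Y) (gG R gen 8) tabs f :=
  facts_to _ _ _ facts_ok1 facts_upto0
theorem facts_upto2 : ∀ f, f < 14976 → VF (HH R Y) (gG R gen 8) tabs f :=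
  facts_to _ _ _ facts_ok2 facts_upto1
theorem facts_upto3 : ∀ f, f < 19968 → VF (HH R Y) (gG R gen 8) tabs f :=
  facts_to _ _ _ facts_ok3 facts_upto2
theorem facts_upto4 : ∀ f, f < 24960 → VF (HH R Y) (gG R gen 8) tabs f :=
  facts_to _ _ _ facts_ok4 facts_upto3
theorem facts_upto5 : ∀ f, f < 29952 → VF (HH R Y) (gG R gen 8) tabs f :=
  facts_to _ _ _ facts_ok5 facts_upto4
theorem facts_upto6 : ∀ f, f < 34944 → VF (HH R Y) (gG R gen 8) tabs f :=
  facts_to _ _ _ facts_ok6 facts_upto5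
theorem facts_upto7 : ∀ f, f < 39936 → VF (HH R Y) (gG R gen 8) tabs f :=
  facts_to _ _ _ facts_ok7 facts_upto6
theorem facts_upto8 : ∀ f, f < 44928 → VF (HH R Y) (gG R gen 8) tabs f :=
  facts_to _ _ _ facts_ok8 facts_upto7
theorem facts_upto9 : ∀ f, f < 49920 → VF (HH R Y) (gG R gen 8) tabs f :=
  facts_to _ _ _ facts_ok9 facts_upto8
theorem facts_upto10 : ∀ f, f < 54912 → VF (HH R Y) (gG R gen 8) tabs f :=
  facts_to _ _ _ facts_ok10 facts_upto9
theorem facts_upto11 : ∀ f, f < 59904 → VF (HH R Y) (gG R gen 8) tabs f :=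
  facts_to _ _ _ facts_ok11 facts_upto10
theorem facts_upto12 : ∀ f, f < 64896 → VF (HH R Y) (gG R gen 8) tabs f :=
  facts_to _ _ _ facts_ok12 facts_upto11
theorem facts_upto13 : ∀ f, f < 69888 → VF (HH R Y) (gG R gen 8) tabs f :=
  facts_to _ _ _ facts_ok13 facts_upto12
theorem facts_upto14 : ∀ f, f < 74880 → VF (HH R Y) (gG R gen 8) tabs f :=
  facts_to _ _ _ facts_ok14 facts_upto13
theorem facts_upto15 : ∀ f, f < 79872 → VF (HH R Y) (gG R gen 8) tabs f :=
  facts_to _ _ _ facts_ok15 facts_upto14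
theorem facts_upto16 : ∀ f, f < 84864 → VF (HH R Y) (gG R gen 8) tabs f :=
  facts_to _ _ _ facts_ok16 facts_upto15
theorem facts_upto17 : ∀ f, f < 89856 → VF (HH R Y) (gG R gen 8) tabs f :=
  facts_to _ _ _ facts_ok17 facts_upto16
theorem facts_upto18 : ∀ f, f < 94848 → VF (HH R Y) (gG R gen 8) tabs f :=
  facts_to _ _ _ facts_ok18 facts_upto17
theorem facts_upto19 : ∀ f, f < 97613 → VF (HH R Y) (gG R gen 8) tabs f :=
  facts_to _ _ _ facts_ok19 facts_upto18

theorem hperm_all : ∀ r, tabs.nsub ≤ r → r < tabs.nsub + 8 * 8 + U62P.extra.length →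
    relOk ptabs (tabs.word r) 0 ptabs.n = true := by
  intro r h1 h2
  exact perm_all r h1 h2

theorem hn : 0 < ptabs.n := by decide +kernel

theorem main_index : (HH R Y).index = 6336 :=
  (cox_cert inv_ok layout hn defs_ok 97613 facts_upto19 fin_ok par_ok hperm_all subfix_all).1

end Cfsg.Agent.Helper28.U62A
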